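import Cfsg.Agent.H586.NX.Tools

/-!
# S4816, layer (BP), `p = 3`: the number of conjugates of a subgroup of order 3, Sylow subgroups of order 9 (helper263)
-/

set_option autoImplicit false
set_option linter.unusedSectionVars false

open Subgroup

namespace Cfsg.Agent.H263.RIM

/-- Burnside: the normalizer of an abelian Sylow subgroup of a perfect group is larger than the centralizer -/
theorem two_mul_card_centralizer {p : ℕ} [hp : Fact p.Prime] {Y : Type*} [Group Y] [Finite Y] (perf : commutator Y = ⊤)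
    (P : Sylow p Y) (hab : ∀ a ∈ P, ∀ b ∈ P, a * b = b * a) (hP : (P : Subgroup Y) ≠ ⊥) :
    2 * Nat.card (centralizer ((P : Subgroup Y) : Set Y)) ≤ Nat.card (normalizer ((P : Subgroup Y) : Set Y)) := by
  have hle : centralizer ((P : Subgroup Y) : Set Y) ≤ normalizer ((P : Subgroup Y) : Set Y) := by
    intro c hc
    rw [mem_centralizer_iff] at hc
    rw [mem_normalizer_iff]
    intro y
    constructor
    · intro hy
      have h1 : c * y * c⁻¹ = y := by rw [← hc y hy]; group
      rw [h1]
      exact hy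
    · intro hy
      have h1 := hc _ hy
      have h2 : y = c * y * c⁻¹ := by
        have h3 : c * y * c⁻¹ * c = c * (c * y * c⁻¹) := h1
        have h4 : c * y = c * (c * y * c⁻¹) := by rw [← h3]; group
        exact mul_left_cancel h4
      rw [h2]
      exact hy
  by_contra hcon
  push Not at hcon
  obtain ⟨c, hc⟩ := card_dvd_of_le hle
  have hc1 : c = 1 := by
    rw [hc, mul_comm 2] at hcon
    have h1 : c < 2 := Nat.lt_of_mul_lt_mul_left hcon
    have h2 : c ≠ 0 := by
      rintro rfl
      rw [mul_zero] at hc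
      exact absurd hc (Nat.card_pos (α := normalizer ((P : Subgroup Y) : Set Y))).ne'
    omega
  rw [hc1, mul_one] at hc
  have heq : centralizer ((P : Subgroup Y) : Set Y) = normalizer ((P : Subgroup Y) : Set Y) :=
    Subgroup.eq_of_le_of_card_ge hle hc.le
  have hcomp := MonoidHom.ker_transferSylow_isComplement' P heq.ge
  have hk : commutator Y ≤ (MonoidHom.transferSylow P heq.ge).ker := by
    rw [commutator_def, Subgroup.commutator_le]
    intro a _ b _
    rw [MonoidHom.mem_ker, map_commutatorElement, commutatorElement_eq_one_iff_mul_comm]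
    exact Subtype.ext (hab _ (Subtype.prop _) _ (Subtype.prop _))
  rw [perf, top_le_iff] at hk
  rw [hk] at hcomp
  exact hP (isComplement'_top_left.1 hcomp)

/-- `|P| = 9`, the conjugates of `x` in `P` are `x^(±1)` -/
theorem index_18 {Y : Type*} [Group Y] [Finite Y] (perf : commutator Y = ⊤) {X : Subgroup Y} [X.Normal]
    (hX : X ≤ center Y) (h3 : ¬ 3 ∣ Nat.card X) (P : Sylow 3 Y) (hP : Nat.card P = 9) {x : Y} (hxP : x ∈ P)
    (huniq : ∀ g : Y, g * x * g⁻¹ ∈ P → g * x * g⁻¹ ∈ zpowers x) :
    (normalizer ((zpowers x : Subgroup Y) : Set Y)).index * 18 ≤ Nat.card (Y ⧸ X) := by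
  have : Fact (Nat.Prime 3) := ⟨Nat.prime_three⟩
  have hP' : Nat.card (P : Subgroup Y) = 3 ^ 2 := by
    rw [show (3 ^ 2 : ℕ) = 9 by norm_num]
    exact hP
  have hab : ∀ a ∈ P, ∀ b ∈ P, a * b = b * a := by
    have h1 := (IsPGroup.isMulCommutative_of_card_eq_prime_sq (p := 3) (G := (P : Subgroup Y)) hP').is_comm.comm
    intro a ha b hb
    exact congrArg Subtype.val (h1 ⟨a, ha⟩ ⟨b, hb⟩)
  have hne : (P : Subgroup Y) ≠ ⊥ := by
    intro h
    rw [h, Subgroup.card_bot] at hP'
    norm_num at hP'
  have h1 := two_mul_card_centralizer perf P hab hne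
  -- the centralizer contains `P` and `X`
  have h2 : Nat.card X * 9 ≤ Nat.card (centralizer ((P : Subgroup Y) : Set Y)) := by
    have hd1 : Nat.card X ∣ Nat.card (centralizer ((P : Subgroup Y) : Set Y)) := by
      refine card_dvd_of_le fun y hy => ?_
      rw [mem_centralizer_iff]
      intro z _
      exact mem_center_iff.1 (hX hy) z
    have hd2 : 9 ∣ Nat.card (centralizer ((P : Subgroup Y) : Set Y)) := by
      have h3 : (P : Subgroup Y) ≤ centralizer ((P : Subgroup Y) : Set Y) := by
        intro y hy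
        rw [mem_centralizer_iff]
        intro z hz
        exact hab z hz y hy
      have h4 := card_dvd_of_le h3
      rwa [hP'] at h4
    have hcop : (Nat.card X).Coprime 9 := by
      rw [show (9 : ℕ) = 3 ^ 2 by norm_num]
      exact Nat.Coprime.pow_right 2 ((Nat.Prime.coprime_iff_not_dvd Nat.prime_three).2 h3).symm
    exact Nat.le_of_dvd Nat.card_pos (hcop.mul_dvd_of_dvd_of_dvd hd1 hd2)
  -- the normalizer of `P` normalizes `⟨x⟩`
  have h4 : normalizer ((P : Subgroup Y) : Set Y) ≤ normalizer ((zpowers x : Subgroup Y) : Set Y) := by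
    intro g hg
    have key : ∀ h ∈ normalizer ((P : Subgroup Y) : Set Y), ∀ y ∈ zpowers x, h * y * h⁻¹ ∈ zpowers x := by
      intro h hh y hy
      have h5 : h * x * h⁻¹ ∈ zpowers x := huniq h ((mem_normalizer_iff.1 hh x).1 hxP)
      obtain ⟨k, rfl⟩ := mem_zpowers_iff.1 hy
      rw [← conj_zpow]
      exact zpow_mem h5 k
    rw [mem_normalizer_iff]
    intro y
    refine ⟨key g hg y, fun h5 => ?_⟩
    have h6 := key g⁻¹ (inv_mem hg) _ h5
    have h7 : g⁻¹ * (g * y * g⁻¹) * g⁻¹⁻¹ = y := by group
    rwa [h7] at h6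
  have h5 := Nat.le_of_dvd Nat.card_pos (card_dvd_of_le h4)
  have h6 := (normalizer ((zpowers x : Subgroup Y) : Set Y)).card_mul_index
  have h7 := X.card_mul_index
  rw [Subgroup.index_eq_card] at h7
  have hXpos : 0 < Nat.card X := Nat.card_pos
  refine Nat.le_of_mul_le_mul_left ?_ hXpos
  rw [h7, ← h6]
  calc Nat.card X * ((normalizer ((zpowers x : Subgroup Y) : Set Y)).index * 18)
      = (2 * (Nat.card X * 9)) * (normalizer ((zpowers x : Subgroup Y) : Set Y)).index := by ring
    _ ≤ Nat.card (normalizer ((zpowers x : Subgroup Y) : Set Y)) *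
        (normalizer ((zpowers x : Subgroup Y) : Set Y)).index :=
      Nat.mul_le_mul_right _ (((Nat.mul_le_mul_left 2 h2).trans h1).trans h5)

end Cfsg.Agent.H263.RIM
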