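import Cfsg.Agent.H263.RIM.TTwo

/-!
# S4816, layer (BP), `p = 3`: quadratic forms over `F_2` (helper263)

* `sum_sq` : `(∑ (-1)^q(u))² = |U|`;
* `card_pairs` : the number of pairs `u, v` with `q u = q v = B u v = 1`;
* `six_mul_le` : `6 |Y : N(<y>)| ≤` that number, if `y` has order `3` and `|U : C_U(y)| = 4`.
-/

set_option autoImplicit false
set_option linter.unusedSectionVars false

open scoped commutatorElement

namespace Cfsg.Agent.H263.RIM

open Cfsg.Agent.H586.NX Cfsg.Agent.H921.NX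

/-- the sign -/
def sgn (z : ZMod 2) : ℤ := if z = 0 then 1 else -1

theorem sgn_add (a b : ZMod 2) : sgn (a + b) = sgn a * sgn b := by
  revert a b
  unfold sgn
  decide

theorem sgn_zero : sgn 0 = 1 := rfl

theorem sgn_one : sgn 1 = -1 := rfl

theorem sgn_mul_self (a : ZMod 2) : sgn a * sgn a = 1 := by
  revert a
  unfold sgn
  decide

section

variable {q₀ n : ℕ} {Y U : Type*} [Group Y] [Finite Y] [AddCommGroup U] [Finite U] [DistribMulAction Y U]
  {X : Subgroup Y} {B : U → U → ZMod 2}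

theorem sum_B [Fintype U] (S : SX (U := U) 3 q₀ 2 n X B) {u : U} (hu : u ≠ 0) : ∑ v, sgn (B u v) = 0 := by
  obtain ⟨w, hw⟩ : ∃ w, B u w ≠ 0 := by
    by_contra hcon
    push Not at hcon
    exact hu (S.nd u hcon)
  have hz : ∀ z : ZMod 2, z ≠ 0 → z = 1 := by decide
  have h1 : ∑ v, sgn (B u v) = ∑ v, sgn (B u (v + w)) := (Equiv.sum_comp (Equiv.addRight w) (fun v => sgn (B u v))).symm
  have h2 : ∑ v, sgn (B u (v + w)) = - ∑ v, sgn (B u v) := by
    rw [← Finset.sum_neg_distrib]
    refine Finset.sum_congr rfl fun v _ => ?_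
    rw [S.addr, sgn_add, hz _ hw, sgn_one]
    ring
  rw [h2] at h1
  omega

theorem sum_sq [Fintype U] (S : SX (U := U) 3 q₀ 2 n X B) {q : U → ZMod 2} (hq : ∀ u v, q (u + v) = q u + q v + B u v) :
    (∑ u, sgn (q u)) * (∑ u, sgn (q u)) = 4 ^ n := by
  have hq0 : q 0 = 0 := by
    have h1 := hq 0 0
    rw [add_zero, B_zero_left S, add_zero] at h1
    exact left_eq_add.1 h1
  have h1 : (∑ u, sgn (q u)) * (∑ u, sgn (q u)) = ∑ w, sgn (q w) * ∑ u, sgn (B u w) := by
    rw [Finset.sum_mul]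
    calc ∑ u, sgn (q u) * ∑ v, sgn (q v) = ∑ u, sgn (q u) * ∑ w, sgn (q (u + w)) := by
          refine Finset.sum_congr rfl fun u _ => ?_
          rw [Equiv.sum_comp (Equiv.addLeft u) (fun v => sgn (q v)) |>.symm]
          rfl
      _ = ∑ u, ∑ w, sgn (q w) * sgn (B u w) := by
          refine Finset.sum_congr rfl fun u _ => ?_
          rw [Finset.mul_sum]
          refine Finset.sum_congr rfl fun w _ => ?_
          rw [hq, sgn_add, sgn_add]
          calc sgn (q u) * (sgn (q u) * sgn (q w) * sgn (B u w))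
              = (sgn (q u) * sgn (q u)) * (sgn (q w) * sgn (B u w)) := by ring
            _ = _ := by rw [sgn_mul_self, one_mul]
      _ = ∑ w, ∑ u, sgn (q w) * sgn (B u w) := Finset.sum_comm
      _ = _ := by
          refine Finset.sum_congr rfl fun w _ => ?_
          rw [Finset.mul_sum]
  rw [h1, Finset.sum_eq_single 0]
  · rw [hq0, sgn_zero, one_mul]
    have h2 : ∀ u : U, sgn (B u 0) = 1 := fun u => by rw [B_zero_right S, sgn_zero]
    simp only [h2, Finset.sum_const, Finset.card_univ, nsmul_eq_mul, mul_one]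
    have h3 := S.card
    rw [Nat.card_eq_fintype_card] at h3
    rw [h3, pow_mul]
    norm_num
  · intro w _ hw
    have h2 : ∑ u, sgn (B u w) = 0 := by
      rw [← sum_B S hw]
      refine Finset.sum_congr rfl fun u _ => ?_
      rw [B_swap S, neg_eq_of_add_eq_zero_left (CharTwo.add_self_eq_zero (B w u))]
    rw [h2, mul_zero]
  · intro h
    exact absurd (Finset.mem_univ _) h

theorem card_one [Fintype U] (q : U → ZMod 2) :
    2 * (Nat.card {u : U // q u = 1} : ℤ) = Fintype.card U - ∑ u, sgn (q u) := by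
  classical
  have h1 : ∀ u, (if q u = 1 then (2 : ℤ) else 0) = 1 - sgn (q u) := by
    intro u
    have : ∀ z : ZMod 2, (if z = 1 then (2 : ℤ) else 0) = 1 - sgn z := by unfold sgn; decide
    exact this _
  have h2 : ∑ u, (if q u = 1 then (2 : ℤ) else 0) = Fintype.card U - ∑ u, sgn (q u) := by
    simp only [h1, Finset.sum_sub_distrib, Finset.sum_const, Finset.card_univ, nsmul_eq_mul, mul_one]
  rw [← h2, Nat.card_eq_fintype_card, Fintype.card_subtype, ← Finset.sum_filter, Finset.sum_const, nsmul_eq_mul]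
  ring

theorem card_pairs_aux [Fintype U] (S : SX (U := U) 3 q₀ 2 n X B) {q : U → ZMod 2}
    (hq : ∀ u v, q (u + v) = q u + q v + B u v) {u : U} (hu : q u = 1) :
    4 * (Nat.card {v : U // q v = 1 ∧ B u v = 1} : ℤ) = Fintype.card U - 2 * ∑ v, sgn (q v) := by
  classical
  have hu0 : u ≠ 0 := by
    rintro rfl
    have h1 := hq 0 0
    rw [add_zero, B_zero_left S, add_zero] at h1
    have h2 : q 0 = 0 := left_eq_add.1 h1
    rw [h2] at hu
    exact absurd hu (by decide)
  have h1 : ∀ v, (if q v = 1 ∧ B u v = 1 then (4 : ℤ) else 0) = 1 - sgn (q v) - sgn (B u v) + sgn (q v) * sgn (B u v) := by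
    intro v
    have : ∀ z z' : ZMod 2, (if z = 1 ∧ z' = 1 then (4 : ℤ) else 0) = 1 - sgn z - sgn z' + sgn z * sgn z' := by
      unfold sgn; decide
    exact this _ _
  have h3 : ∑ v, sgn (q v) * sgn (B u v) = - ∑ v, sgn (q v) := by
    have h4 : ∀ v, sgn (q v) * sgn (B u v) = - sgn (q (v + u)) := by
      intro v
      rw [hq, sgn_add, sgn_add, hu, sgn_one, B_swap S v u, neg_eq_of_add_eq_zero_left (CharTwo.add_self_eq_zero (B u v))]
      ring
    simp only [h4, Finset.sum_neg_distrib]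
    rw [Equiv.sum_comp (Equiv.addRight u) (fun v => sgn (q v)) |>.symm]
    rfl
  have h2 : ∑ v, (if q v = 1 ∧ B u v = 1 then (4 : ℤ) else 0) = Fintype.card U - 2 * ∑ v, sgn (q v) := by
    simp only [h1, Finset.sum_add_distrib, Finset.sum_sub_distrib, Finset.sum_const, Finset.card_univ, nsmul_eq_mul,
      mul_one, h3, sum_B S hu0]
    ring
  rw [← h2, Nat.card_eq_fintype_card, Fintype.card_subtype, ← Finset.sum_filter, Finset.sum_const, nsmul_eq_mul]
  ring

/-- the number of pairs -/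
theorem card_pairs [Fintype U] (S : SX (U := U) 3 q₀ 2 n X B) {q : U → ZMod 2}
    (hq : ∀ u v, q (u + v) = q u + q v + B u v) :
    8 * (Nat.card {x : U × U // q x.1 = 1 ∧ q x.2 = 1 ∧ B x.1 x.2 = 1} : ℤ) =
      (Fintype.card U - ∑ v, sgn (q v)) * (Fintype.card U - 2 * ∑ v, sgn (q v)) := by
  classical
  have e : {x : U × U // q x.1 = 1 ∧ q x.2 = 1 ∧ B x.1 x.2 = 1} ≃
      Σ u : {u : U // q u = 1}, {v : U // q v = 1 ∧ B u v = 1} :=
    { toFun := fun x => ⟨⟨x.1.1, x.2.1⟩, ⟨x.1.2, x.2.2⟩⟩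
      invFun := fun x => ⟨(x.1.1, x.2.1), x.1.2, x.2.2.1, x.2.2.2⟩
      left_inv := fun _ => rfl
      right_inv := fun _ => rfl }
  rw [Nat.card_congr e, Nat.card_sigma, Nat.cast_sum, ← card_one q]
  have h1 : ∑ x : {u : U // q u = 1}, 4 * (Nat.card {v : U // q v = 1 ∧ B x v = 1} : ℤ) =
      Nat.card {u : U // q u = 1} * (Fintype.card U - 2 * ∑ v, sgn (q v)) := by
    rw [Finset.sum_congr rfl fun x _ => card_pairs_aux S hq x.2, Finset.sum_const, Finset.card_univ, nsmul_eq_mul,
      Nat.card_eq_fintype_card]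
  rw [← Finset.mul_sum] at h1
  linarith

end

end Cfsg.Agent.H263.RIM
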