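import Cfsg.Agent.H20.RIM.AS
import Cfsg.Agent.H263.RIM.QForm
import Cfsg.Agent.H263.RIM.Idx

/-!
# S4816, layer (BP), `p = 3`, box K3 (helper263)
-/

set_option autoImplicit false
set_option linter.unusedSectionVars false

open scoped commutatorElement

namespace Cfsg.Agent.H263.RIM

open Cfsg.Agent.H586.NX Cfsg.Agent.H921.NX Cfsg.Agent.H20.RIM

section

variable {r n : ℕ} {Y U : Type*} [Group Y] [Finite Y] [AddCommGroup U] [Finite U] [DistribMulAction Y U]
  {X : Subgroup Y} {B : U → U → ZMod 2}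

theorem card_fix_conj (t y : Y) : Nat.card {u : U // (t * y * t⁻¹) • u = u} = Nat.card {u : U // y • u = u} := by
  refine Nat.card_congr ⟨fun u => ⟨t⁻¹ • u.1, ?_⟩, fun u => ⟨t • u.1, ?_⟩, fun u => ?_, fun u => ?_⟩
  · rw [eq_inv_smul_iff, smul_smul, smul_smul]
    exact u.2
  · rw [mul_smul, mul_smul, inv_smul_smul, u.2]
  · apply Subtype.ext
    exact smul_inv_smul t u.1
  · apply Subtype.ext
    exact inv_smul_smul t u.1

/-- the same data for another prime -/
theorem exists_sx' (S : SX (U := U) 3 r 2 n X B) {p : ℕ} (hp : p.Prime) (hp2 : p ≠ 2) (hX : ¬ p ∣ Nat.card X)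
    (hY : p ∣ Nat.card Y) : ∃ q₀ : ℕ, SX (U := U) p q₀ 2 n X B := by
  obtain ⟨q₀, hq, hq'⟩ := Nat.exists_infinite_primes (Nat.card Y + p + 1)
  refine ⟨q₀, ?_⟩
  exact
    { hp := hp
      hq := hq'
      hs := S.hs
      hps := hp2
      odd := hp2
      ne := by omega
      hn := S.hn
      perf := S.perf
      nX := S.nX
      Xt := S.Xt
      maxX := S.maxX
      pX := hX
      pY := hY
      qY := fun h => by
        have := Nat.le_of_dvd Nat.card_pos h
        omega
      faith := S.faith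
      exp := S.exp
      card := S.card
      addl := S.addl
      addr := S.addr
      alt := S.alt
      nd := S.nd
      inv := S.inv
      irr := S.irr }

/-- the number of zeros of `q` modulo the order of a fixed point free group -/
theorem zeros_modEq (S : SX (U := U) 3 r 2 n X B) {q : U → ZMod 2} (hq : ∀ u v, q (u + v) = q u + q v + B u v)
    (hqi : ∀ (y : Y) (u : U), q (y • u) = q u) {p : ℕ} [Fact p.Prime] {P : Subgroup Y} (hP : IsPGroup p P)
    (hfp : ∀ u : U, (∀ y ∈ P, y • u = u) → u = 0) : Nat.card {u : U // q u = 0} ≡ 1 [MOD p] := by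
  have hq0 : q 0 = 0 := by
    have h1 := hq 0 0
    rw [add_zero, B_zero_left S, add_zero] at h1
    exact left_eq_add.1 h1
  have h1 := card_modEq hP {u : U | q u = 0} (fun y _ u hu => by
    change q (y • u) = 0
    rw [hqi]
    exact hu)
  have h2 : Nat.card {u : U // u ∈ {u : U | q u = 0} ∧ ∀ y ∈ P, y • u = u} = 1 := by
    rw [Nat.card_eq_one_iff_unique]
    refine ⟨⟨fun a b => ?_⟩, ⟨⟨0, hq0, fun y _ => smul_zero y⟩⟩⟩
    exact Subtype.ext ((hfp a.1 a.2.2).trans (hfp b.1 b.2.2).symm)
  rw [h2] at h1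
  exact h1

/-- the number of zeros of `q` -/
theorem zeros_card (S : SX (U := U) 3 r 2 n X B) {q : U → ZMod 2} (hq : ∀ u v, q (u + v) = q u + q v + B u v) :
    Nat.card {u : U // q u = 0} + Nat.card {u : U // q u = 0} = 4 ^ n + 2 ^ n ∨
    Nat.card {u : U // q u = 0} + Nat.card {u : U // q u = 0} + 2 ^ n = 4 ^ n := by
  classical
  have := Fintype.ofFinite U
  have h1 := sum_sq S hq
  have h2 := card_one q
  have h3 : Nat.card {u : U // q u = 0} + Nat.card {u : U // q u = 1} = Nat.card U := by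
    rw [← Nat.card_sum]
    refine Nat.card_congr ((Equiv.sumCongr (Equiv.refl _) (Equiv.subtypeEquivRight fun u => ?_)).trans
      (Equiv.sumCompl fun u => q u = 0))
    have : ∀ z : ZMod 2, z = 1 ↔ ¬ z = 0 := by decide
    exact this _
  have h4 : (Fintype.card U : ℤ) = 4 ^ n := by
    rw [← Nat.card_eq_fintype_card, S.card, pow_mul]
    norm_num
  have h4' : Nat.card U = 4 ^ n := by rw [S.card, pow_mul]; norm_num
  have h5 : (∑ u, sgn (q u)) = 2 ^ n ∨ (∑ u, sgn (q u)) = - 2 ^ n := by
    have h6 : (∑ u, sgn (q u)) * (∑ u, sgn (q u)) = 2 ^ n * 2 ^ n := by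
      rw [h1, ← mul_pow]
      norm_num
    rcases mul_self_eq_mul_self_iff.1 h6 with h | h
    · exact Or.inl h
    · exact Or.inr h
  rw [h4] at h2
  rw [h4'] at h3
  zify at h3 ⊢
  rcases h5 with h5 | h5
  · left
    rw [h5] at h2
    linarith
  · right
    rw [h5] at h2
    linarith

end

section

variable {r : ℕ} {Y U : Type*} [Group Y] [Finite Y] [AddCommGroup U] [Finite U] [DistribMulAction Y U]
  {X : Subgroup Y} {B : U → U → ZMod 2}

theorem P_three : Cfsg.Agent.H37.NW.P 2 3 = 1451520 := by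
  norm_num [Cfsg.Agent.H37.NW.P, Finset.prod_range_succ]

/-- the case `9 ∣ |Y|` -/
theorem nine_false (A : AS (U := U) r 3 3 X B) (hXc : X ≤ Subgroup.center Y) (h9 : 9 ∣ Nat.card Y)
    (hl : [X.Normal] → 9 ∣ Nat.card (Y ⧸ X) → Nat.card (Y ⧸ X) ∣ 2 ^ 9 * 3 ^ 2 * 5 → Nat.card (Y ⧸ X) = 360) :
    False := by
  have hf3 : Fact (Nat.Prime 3) := ⟨Nat.prime_three⟩
  have S := A.S
  have hXn := A.nX
  have hYP : Nat.card Y ∣ 1451520 := P_three ▸ card_dvd S
  have hXY : Nat.card X * Nat.card (Y ⧸ X) = Nat.card Y := by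
    rw [← Subgroup.index_eq_card, Subgroup.card_mul_index]
  obtain ⟨q, hq, hqi, P, T, i, cT, iso, st, hq0, hi⟩ := A.qf rfl
  have h9P : 9 ∣ Nat.card P := by
    have h1 := (P : Subgroup Y).card_mul_index
    have h2 : (9 : ℕ).Coprime (P : Subgroup Y).index := by
      rw [show (9 : ℕ) = 3 ^ 2 by norm_num]
      exact Nat.Coprime.pow_left 2 ((Nat.Prime.coprime_iff_not_dvd Nat.prime_three).2 P.not_dvd_index)
    rw [← h1] at h9
    exact h2.dvd_of_dvd_mul_right h9
  have hdvd := card_range_dvd S cT st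
  rcases hi with rfl | ⟨hi, -⟩
  · -- `|T| = 8`
    have h3F : ¬ 3 ∣ Nat.card (fixT (P : Subgroup Y) T) := by
      intro h3
      obtain ⟨y, hy⟩ := exists_prime_orderOf_dvd_card' (G := fixT (P : Subgroup Y) T) 3 h3
      rw [← Subgroup.orderOf_coe] at hy
      have := (fix_large S iso cT (by norm_num) hy y.2.2).1
      omega
    have h1 : 9 ∣ Nat.card (fixT (P : Subgroup Y) T) * 168 := by
      have h2 := h9P.trans hdvd
      have h3 : (∏ i : Fin 3, (2 ^ 3 - 2 ^ (i : ℕ))) = 168 := by decide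
      rwa [h3] at h2
    have h2 : (9 : ℕ).Coprime (Nat.card (fixT (P : Subgroup Y) T)) := by
      rw [show (9 : ℕ) = 3 ^ 2 by norm_num]
      exact Nat.Coprime.pow_left 2 ((Nat.Prime.coprime_iff_not_dvd Nat.prime_three).2 h3F)
    exact absurd (h2.dvd_of_dvd_mul_left h1) (by norm_num)
  · obtain rfl : i = 2 := by omega
    have h9F : ¬ 9 ∣ Nat.card (fixT (P : Subgroup Y) T) :=
      not_nine_fix S iso cT (by norm_num) _ fun y hy => hy.2
    have h3 : (∏ i : Fin 2, (2 ^ 2 - 2 ^ (i : ℕ))) = 6 := by decide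
    rw [h3] at hdvd
    have h3F : 3 ∣ Nat.card (fixT (P : Subgroup Y) T) := by
      have := h9P.trans hdvd
      omega
    have hFP : Nat.card (fixT (P : Subgroup Y) T) ∣ Nat.card P := Subgroup.card_dvd_of_le fun y hy => hy.1
    have hcP : Nat.card P = 9 := by
      obtain ⟨k, hk⟩ := (IsPGroup.iff_card (p := 3) (G := (P : Subgroup Y))).1 P.2
      have hk' : Nat.card P = 3 ^ k := hk
      have h27 : ¬ 27 ∣ Nat.card P := by
        intro h
        have := h.trans hdvd
        omega
      have hk2 : k < 3 := by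
        by_contra hcon
        apply h27
        rw [hk']
        exact pow_dvd_pow 3 (by omega : 3 ≤ k)
      rw [hk'] at h9P ⊢
      interval_cases k <;> omega
    have hcF : Nat.card (fixT (P : Subgroup Y) T) = 3 := by
      rw [hcP] at hFP
      have h4 := Nat.le_of_dvd (by norm_num) hFP
      obtain ⟨c, hc⟩ := h3F
      rw [hc] at hFP h9F h4 ⊢
      have : c ≤ 3 := by omega
      interval_cases c <;> omega
    obtain ⟨x', hx⟩ := exists_prime_orderOf_dvd_card' (G := fixT (P : Subgroup Y) T) 3 h3F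
    rw [← Subgroup.orderOf_coe] at hx
    obtain ⟨x, hx'⟩ : ∃ x, x = (x' : Y) := ⟨_, rfl⟩
    have hxP : x ∈ (P : Subgroup Y) := hx' ▸ x'.2.1
    have hxT : ∀ u ∈ T, x • u = u := hx' ▸ x'.2.2
    rw [← hx'] at hx
    have hFx : ∀ y ∈ fixT (P : Subgroup Y) T, y ∈ Subgroup.zpowers x := by
      have h4 : Subgroup.zpowers x = fixT (P : Subgroup Y) T := by
        apply Subgroup.eq_of_le_of_card_ge
        · rw [Subgroup.zpowers_le]
          exact ⟨hxP, hxT⟩
        · rw [hcF, Nat.card_zpowers, hx]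
      rw [h4]
      exact fun _ h => h
    obtain ⟨-, hxc⟩ := fix_large S iso cT (by norm_num) hx hxT
    -- uniqueness
    have huniq : ∀ g : Y, g * x * g⁻¹ ∈ P → g * x * g⁻¹ ∈ Subgroup.zpowers x := by
      intro g hg
      refine hFx _ ⟨hg, ?_⟩
      refine fix_of_card S iso (t := 2) (by norm_num) (y := g * x * g⁻¹) ?_ (fun u hu => st _ hg u hu) ?_
      · rw [← hx]
        exact orderOf_injective (MulAut.conj g).toMonoidHom (MulAut.conj g).injective x
      · rw [card_fix_conj, hxc]
    have h18 := index_18 S.perf hXc S.pX P hcP hxP huniq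
    -- the count
    obtain ⟨k, hk, hcnt⟩ := A.cnt x hx 1 (by norm_num) (by rw [hxc])
    have hN : 21 ≤ (Subgroup.normalizer ((Subgroup.zpowers x : Subgroup Y) : Set Y)).index := by
      have hk1 : k ≤ 1 := by omega
      have h4 : 3 ^ (2 ^ (3 - 1) * k) ≤ 81 := by
        interval_cases k <;> norm_num
      have h5 : 3 ^ (2 ^ 3) ≤ 4 ^ 1 * (Subgroup.normalizer ((Subgroup.zpowers x : Subgroup Y) : Set Y)).index * 81 :=
        hcnt.trans (Nat.mul_le_mul_left _ h4)
      norm_num at h5
      omega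
    -- no fixed vectors
    have hTP : ∀ u ∈ T, (∀ y ∈ P, y • u = u) → u = 0 := by
      let C : AddSubgroup U :=
        { carrier := {u | u ∈ T ∧ ∀ y ∈ P, y • u = u}
          zero_mem' := ⟨T.zero_mem, fun y _ => smul_zero y⟩
          add_mem' := by
            rintro a b ⟨ha, ha'⟩ ⟨hb, hb'⟩
            exact ⟨T.add_mem ha hb, fun y hy => by rw [smul_add, ha' y hy, hb' y hy]⟩
          neg_mem' := by
            rintro a ⟨ha, ha'⟩
            exact ⟨T.neg_mem ha, fun y hy => by rw [smul_neg, ha' y hy]⟩ }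
      have hCT : C ≤ T := fun u hu => hu.1
      have h4 := card_modEq P.2 (T : Set U) st
      have h5 : Nat.card {u : U // u ∈ (T : Set U) ∧ ∀ y ∈ (P : Subgroup Y), y • u = u} = Nat.card C := rfl
      have h6 : Nat.card (T : Set U) = 4 := by
        have : Nat.card (T : Set U) = Nat.card T := rfl
        rw [this, cT]
        norm_num
      rw [h5, h6] at h4
      have h7 : Nat.card C ∣ 4 := by
        have := AddSubgroup.card_dvd_of_le hCT
        rwa [cT, show (2 ^ 2 : ℕ) = 4 by norm_num] at this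
      have h8 : Nat.card C ≤ 4 := Nat.le_of_dvd (by norm_num) h7
      have h9 : Nat.card C = 1 ∨ Nat.card C = 4 := by
        unfold Nat.ModEq at h4
        generalize Nat.card C = m at h4 h7 h8
        interval_cases m <;> omega
      rcases h9 with h9 | h9
      · intro u hu hu'
        have h10 : C = ⊥ := AddSubgroup.card_eq_one.1 h9
        have h11 : u ∈ C := ⟨hu, hu'⟩
        rw [h10] at h11
        exact h11
      · exfalso
        have h10 : C = T := by
          apply SetLike.coe_injective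
          refine Set.eq_of_subset_of_ncard_le (fun u hu => hu.1) ?_ (Set.toFinite _)
          have e1 : (T : Set U).ncard = 4 := h6
          have e2 : (C : Set U).ncard = 4 := h9
          rw [e1, e2]
        have h11 : (P : Subgroup Y) ≤ fixT (P : Subgroup Y) T := by
          intro y hy
          refine ⟨hy, fun u hu => ?_⟩
          rw [← h10] at hu
          exact hu.2 y hy
        have h12 := Subgroup.card_dvd_of_le h11
        rw [hcF] at h12
        have h13 : Nat.card (P : Subgroup Y) = 9 := hcP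
        rw [h13] at h12
        norm_num at h12
    have hUP : ∀ u : U, (∀ y ∈ (P : Subgroup Y), y • u = u) → u = 0 := by
      intro c hc
      have h4 := perp_of_fix S P.2 st hTP hc
      by_cases hcT : c ∈ T
      · exact hTP c hcT hc
      · exfalso
        obtain ⟨T', hT', cT'⟩ := exists_ext S T hcT
        have h5 := ext_iso S iso (x := c) (fun t ht => h4 t ht) hT'
        have h6 : ∀ u ∈ T', x • u = u := by
          intro u hu
          rcases (hT' u).1 hu with h7 | h7
          · exact hxT u h7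
          · have h8 := hxT _ h7
            rw [smul_add, hc x hxP] at h8
            exact add_right_cancel h8
        have h7 := (fix_large S (T := T') h5 (t := 3) (by rw [cT', cT]; norm_num) (by norm_num) hx h6).1
        omega
    -- the number of zeros of `q` is `28`
    have h28 : Nat.card {u : U // q u = 0} = 28 := by
      have h4 := zeros_modEq S hq hqi P.2 hUP
      have h5 := zeros_card S hq
      unfold Nat.ModEq at h4
      norm_num at h5
      omega
    have h7S : ¬ 7 ∣ Nat.card (Y ⧸ X) := by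
      intro h7
      have hf7 : Fact (Nat.Prime 7) := ⟨by norm_num⟩
      have h7X : ¬ 7 ∣ Nat.card X := by
        intro h
        have h4 : 7 * 7 ∣ 1451520 := (Nat.mul_dvd_mul h h7).trans (hXY ▸ hYP)
        norm_num at h4
      have h7Y : 7 ∣ Nat.card Y := hXY ▸ h7.mul_left _
      obtain ⟨q₀, S7⟩ := exists_sx' S (by norm_num : Nat.Prime 7) (by norm_num) h7X h7Y
      obtain ⟨z, hz⟩ := exists_prime_orderOf_dvd_card' 7 h7Y
      obtain ⟨j, -, hj, hc, ⟨i, hi1, hi2, hi3⟩, -⟩ := exists_fix S7 hz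
      have hj3 : j = 3 := by
        have : i ≤ 3 := by omega
        interval_cases i
        · norm_num at hi3
        · norm_num at hi3
        · omega
      rw [hj3] at hc
      have h4 := zeros_modEq (p := 7) S hq hqi (P := Subgroup.zpowers z)
        (IsPGroup.of_card (n := 1) (by rw [Nat.card_zpowers, hz, pow_one])) (fun u hu => by
          have h5 : Nat.card {u : U // z • u = u} = 1 := by rw [hc]; norm_num
          have h6 := (Nat.card_eq_one_iff_unique.1 h5).1
          have h7 : (⟨u, hu z (Subgroup.mem_zpowers z)⟩ : {u : U // z • u = u}) = ⟨0, smul_zero z⟩ :=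
            Subsingleton.elim _ _
          exact congrArg Subtype.val h7)
      rw [h28] at h4
      unfold Nat.ModEq at h4
      norm_num at h4
    -- the order of the simple group
    have h9S : 9 ∣ Nat.card (Y ⧸ X) := by
      have h4 : (9 : ℕ).Coprime (Nat.card X) := by
        rw [show (9 : ℕ) = 3 ^ 2 by norm_num]
        exact Nat.Coprime.pow_left 2 ((Nat.Prime.coprime_iff_not_dvd Nat.prime_three).2 S.pX)
      rw [← hXY] at h9
      exact h4.dvd_of_dvd_mul_left h9
    have h27S : ¬ 27 ∣ Nat.card (Y ⧸ X) := by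
      intro h
      have h4 : 27 ∣ Nat.card Y := hXY ▸ h.mul_left _
      have h5 := (P : Subgroup Y).card_mul_index
      have h6 : (27 : ℕ).Coprime (P : Subgroup Y).index := by
        rw [show (27 : ℕ) = 3 ^ 3 by norm_num]
        exact Nat.Coprime.pow_left 3 ((Nat.Prime.coprime_iff_not_dvd Nat.prime_three).2 P.not_dvd_index)
      rw [← h5] at h4
      have h7 := h6.dvd_of_dvd_mul_right h4
      have h8 : Nat.card (P : Subgroup Y) = 9 := hcP
      rw [h8] at h7
      norm_num at h7
    have hSd : Nat.card (Y ⧸ X) ∣ 2 ^ 9 * 3 ^ 2 * 5 := by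
      have h4 : Nat.card (Y ⧸ X) ∣ 1451520 := (Dvd.intro_left _ hXY).trans hYP
      obtain ⟨m, hm⟩ := h9S
      have h5 : ¬ 3 ∣ m := by
        rintro ⟨l, rfl⟩
        exact h27S ⟨l, by rw [hm]; ring⟩
      have h6 : ¬ 7 ∣ m := by
        rintro ⟨l, rfl⟩
        exact h7S ⟨9 * l, by rw [hm]; ring⟩
      rw [hm] at h4 ⊢
      have h7 : m ∣ 2 ^ 9 * 5 * (9 * 7) := by
        have h8 : 9 * m ∣ 9 * (2 ^ 9 * 5 * (9 * 7)) := by
          refine h4.trans (dvd_of_eq ?_)
          norm_num
        exact Nat.dvd_of_mul_dvd_mul_left (by norm_num) h8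
      have h8 : m.Coprime (9 * 7) := by
        refine Nat.Coprime.mul_right ?_ ?_
        · rw [show (9 : ℕ) = 3 ^ 2 by norm_num]
          exact Nat.Coprime.pow_right 2 ((Nat.Prime.coprime_iff_not_dvd Nat.prime_three).2 h5).symm
        · exact ((Nat.Prime.coprime_iff_not_dvd (by norm_num)).2 h6).symm
      have h9 := h8.dvd_of_dvd_mul_right h7
      refine (Nat.mul_dvd_mul_left 9 h9).trans (dvd_of_eq ?_)
      norm_num
    have h360 := hl h9S hSd
    rw [h360] at h18
    omega

/-- **K3**, with the lists of simple groups as hypotheses -/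
theorem kill3_of (A : AS (U := U) r 3 3 X B) (hXc : X ≤ Subgroup.center Y)
    (hl9 : [X.Normal] → ¬ 9 ∣ Nat.card (Y ⧸ X) → Nat.card (Y ⧸ X) ∣ 2 ^ 25 * 3 ^ 6 * 5 ^ 2 * 7 * 11 * 17 * 31 →
      Nat.card (Y ⧸ X) = 60 ∨ Nat.card (Y ⧸ X) = 168 ∨ Nat.card (Y ⧸ X) = 660 ∨ Nat.card (Y ⧸ X) = 4080 ∨
      Nat.card (Y ⧸ X) = 14880 ∨ Nat.card (Y ⧸ X) = 32736)
    (hl : [X.Normal] → 9 ∣ Nat.card (Y ⧸ X) → Nat.card (Y ⧸ X) ∣ 2 ^ 9 * 3 ^ 2 * 5 → Nat.card (Y ⧸ X) = 360) :
    Sm X := by
  have S := A.S
  have hXn := A.nX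
  have hYP : Nat.card Y ∣ 1451520 := P_three ▸ card_dvd S
  have hXY : Nat.card X * Nat.card (Y ⧸ X) = Nat.card Y := by
    rw [← Subgroup.index_eq_card, Subgroup.card_mul_index]
  by_cases h9 : 9 ∣ Nat.card Y
  · exact (nine_false A hXc h9 hl).elim
  have hSd : Nat.card (Y ⧸ X) ∣ 1451520 := (Dvd.intro_left _ hXY).trans hYP
  have h9S : ¬ 9 ∣ Nat.card (Y ⧸ X) := fun h => h9 (hXY ▸ h.mul_left _)
  rcases hl9 h9S (hSd.trans (by norm_num)) with h | h | h | h | h | h
  · left
    refine ⟨h, fun h5 => ?_⟩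
    have h1 : 5 * 60 ∣ 1451520 := by
      refine Dvd.dvd.trans ?_ hYP
      rw [← hXY, h]
      exact Nat.mul_dvd_mul_right h5 60
    norm_num at h1
  · right
    refine ⟨h, fun h7 => ?_⟩
    have h1 : 7 * 168 ∣ 1451520 := by
      refine Dvd.dvd.trans ?_ hYP
      rw [← hXY, h]
      exact Nat.mul_dvd_mul_right h7 168
    norm_num at h1
  · rw [h] at hSd
    norm_num at hSd
  · rw [h] at hSd
    norm_num at hSd
  · rw [h] at hSd
    norm_num at hSd
  · rw [h] at hSd
    norm_num at hSd

end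

end Cfsg.Agent.H263.RIM
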