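import Cfsg.Agent.H263.RIM.BDef
import Cfsg.Agent.H302.RIM.Tw
import Cfsg.Agent.H586.NX.Fix
import Cfsg.Agent.H994.NX.Wie
import Cfsg.Agent.Lib.ElemAbGL

/-!
# S4816, layer (BP), `p = 3`: isotropic subgroups normalized by a Sylow 3-subgroup (helper263)
-/

set_option autoImplicit false
set_option linter.unusedSectionVars false

open scoped commutatorElement

namespace Cfsg.Agent.H263.RIM

open Cfsg.Agent.H586.NX Cfsg.Agent.H921.NX

/-- a dummy prime -/
theorem exists_sx {p s n f : ℕ} {Y U : Type*} [Group Y] [Finite Y] [AddCommGroup U] [Finite U] [DistribMulAction Y U]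
    {X : Subgroup Y} {B : U → U → ZMod s} (S : SP p s n f X B) : ∃ q₀ : ℕ, SX (U := U) p q₀ s n X B := by
  obtain ⟨q₀, hq, hq'⟩ := Nat.exists_infinite_primes (Nat.card Y + p + 1)
  refine ⟨q₀, ?_⟩
  exact
    { hp := S.hp
      hq := hq'
      hs := S.hs
      hps := S.hps
      odd := S.odd
      ne := by omega
      hn := S.hn
      perf := S.perf
      nX := S.nX
      Xt := S.Xt
      maxX := S.maxX
      pX := S.cop
      pY := by
        have := S.nX
        exact S.pY.trans (Subgroup.card_quotient_dvd_card X)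
      qY := fun h => by
        have := Nat.le_of_dvd Nat.card_pos h
        omega
      faith := S.faith
      exp := S.exp
      card := S.card
      addl := S.addl
      addr := S.addr
      alt := S.alt
      nd := S.nd
      inv := S.inv
      irr := S.irr }

/-- the image of a Sylow subgroup of a subgroup of index prime to `p` -/
theorem exists_sylow {p : ℕ} [hp : Fact p.Prime] {G Y : Type*} [Group G] [Finite G] [Group Y] [Finite Y] (π : G →* Y)
    (hr : ¬ p ∣ π.range.index) {T : Subgroup G} (hT : ¬ p ∣ T.index) :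
    ∃ P : Sylow p Y, ∀ y ∈ P, ∃ g ∈ T, π g = y := by
  obtain ⟨R⟩ : Nonempty (Sylow p T) := inferInstance
  set R' : Subgroup G := (R : Subgroup T).map T.subtype with hR'
  have h1 : ¬ p ∣ R'.index := by
    rw [hR', Subgroup.index_map_subtype, hp.out.dvd_mul, not_or]
    exact ⟨R.not_dvd_index, hT⟩
  have h2 : ¬ p ∣ (R'.map π).index := by
    rw [Subgroup.index_map, hp.out.dvd_mul, not_or]
    exact ⟨fun h => h1 (h.trans (Subgroup.index_dvd_of_le le_sup_left)), hr⟩
  have h3 : IsPGroup p (R'.map π) := (R.2.map T.subtype).map π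
  refine ⟨h3.toSylow h2, fun y hy => ?_⟩
  obtain ⟨g, ⟨t, -, rfl⟩, rfl⟩ := hy
  exact ⟨t, t.2, rfl⟩

section

variable {q₀ n : ℕ} {Y U : Type*} [Group Y] [Finite Y] [AddCommGroup U] [Finite U] [DistribMulAction Y U]
  {X : Subgroup Y} {B : U → U → ZMod 2}

/-- the elements of `P` that fix `T` pointwise -/
def fixT (P : Subgroup Y) (T : AddSubgroup U) : Subgroup Y where
  carrier := {y | y ∈ P ∧ ∀ u ∈ T, y • u = u}
  one_mem' := ⟨P.one_mem, fun u _ => one_smul _ u⟩
  mul_mem' := by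
    rintro a b ⟨ha, ha'⟩ ⟨hb, hb'⟩
    exact ⟨P.mul_mem ha hb, fun u hu => by rw [mul_smul, hb' u hu, ha' u hu]⟩
  inv_mem' := by
    rintro a ⟨ha, ha'⟩
    exact ⟨P.inv_mem ha, fun u hu => by rw [inv_smul_eq_iff, ha' u hu]⟩

theorem mem_fixT {P : Subgroup Y} {T : AddSubgroup U} {y : Y} :
    y ∈ fixT P T ↔ y ∈ P ∧ ∀ u ∈ T, y • u = u := Iff.rfl

/-- an element of order `3` that fixes a large isotropic subgroup -/
theorem fix_large (S : SX (U := U) 3 q₀ 2 n X B) {T : AddSubgroup U} (iso : ∀ u ∈ T, ∀ v ∈ T, B u v = 0) {t : ℕ}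
    (cT : Nat.card T = 2 ^ t) (ht : n ≤ t + 1) {y : Y} (hy : orderOf y = 3) (hfix : ∀ u ∈ T, y • u = u) :
    t + 1 = n ∧ Nat.card {u : U // y • u = u} = 2 ^ (2 * t) := by
  obtain ⟨j, hj, hjn, hc, -, -⟩ := exists_fix S hy
  have h1 := card_sq_le S hy T iso hfix
  rw [cT, hc, ← pow_mul] at h1
  have h2 := (Nat.pow_le_pow_iff_right (show 1 < 2 by norm_num)).1 h1
  have h3 : t + 1 = n := by omega
  refine ⟨h3, ?_⟩
  rw [hc]
  congr 1
  omega

/-- a subgroup that fixes a large isotropic subgroup pointwise has order prime to `9` -/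
theorem not_nine_fix (S : SX (U := U) 3 q₀ 2 n X B) {T : AddSubgroup U} (iso : ∀ u ∈ T, ∀ v ∈ T, B u v = 0) {t : ℕ}
    (cT : Nat.card T = 2 ^ t) (ht : n ≤ t + 1) (K : Subgroup Y) (hK : ∀ y ∈ K, ∀ u ∈ T, y • u = u) :
    ¬ 9 ∣ Nat.card K := by
  intro h9
  have hall : ∀ y ∈ K, orderOf y = 3 → t + 1 = n ∧ Nat.card {u : U // y • u = u} = 2 ^ (2 * t) :=
    fun y hy h3 => fix_large S iso cT ht h3 (hK y hy)
  obtain ⟨A, -, ⟨y, -, hy⟩ | ⟨x, -, y, -, hx, hy, hxy, hne⟩⟩ := Cfsg.Agent.H994.NX.nine_cases h9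
  · have hy9 : ((y : Y)) ^ 9 = 1 := by
      have h1 : y ^ 9 = 1 := by rw [← hy]; exact pow_orderOf_eq_one y
      exact congrArg Subtype.val h1
    obtain ⟨m, hm⟩ := Cfsg.Agent.H994.NX.order_nine (U := U) S.exp (y : Y) hy9
    have ho : orderOf ((y : Y) ^ 3) = 3 := by
      rw [orderOf_pow, Subgroup.orderOf_coe, hy]
      norm_num
    obtain ⟨h1, h2⟩ := hall _ (K.pow_mem y.2 3) ho
    rw [h2, S.card] at hm
    have h3 : (2 : ℕ) ^ (2 * n) = 2 ^ (2 * t + 6 * m) := by
      rw [hm, pow_add, pow_mul 2 6 m]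
      norm_num
    have h4 := Nat.pow_right_injective (le_refl 2) h3
    omega
  · have hx' : orderOf (x : Y) = 3 := by rw [Subgroup.orderOf_coe, hx]
    have hy' : orderOf (y : Y) = 3 := by rw [Subgroup.orderOf_coe, hy]
    have hxy' : (x : Y) * y = y * x := congrArg Subtype.val hxy
    have hne' : (y : Y) ∉ Subgroup.zpowers (x : Y) := by
      intro h1
      apply hne
      obtain ⟨k, hk⟩ := Subgroup.mem_zpowers_iff.1 h1
      exact Subgroup.mem_zpowers_iff.2 ⟨k, Subtype.ext (by rw [← hk]; rfl)⟩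
    obtain ⟨o1, o2⟩ := Cfsg.Agent.H994.NX.order_prod hx' hy' hxy' hne'
    have hw := Cfsg.Agent.H994.NX.wielandt (U := U) S.exp (x : Y) y hx' hy' hxy' hne'
    obtain ⟨ht1, e1⟩ := hall _ x.2 hx'
    obtain ⟨-, e2⟩ := hall _ y.2 hy'
    obtain ⟨-, e3⟩ := hall _ (K.mul_mem x.2 y.2) o1
    obtain ⟨-, e4⟩ := hall _ (K.mul_mem x.2 (K.inv_mem y.2)) o2
    rw [e1, e2, e3, e4, S.card] at hw
    obtain ⟨k, hk⟩ := Cfsg.Agent.H994.NX.card_common_pow (U := U) S.exp (x : Y) (y : Y)
    rw [hk] at hw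
    have h2 : (2 : ℕ) ^ (8 * t) = 2 ^ (2 * n + k * 3) := by
      rw [pow_add, pow_mul 2 k 3, ← hw, ← pow_add, ← pow_add, ← pow_add]
      congr 1
      ring
    have h3 := Nat.pow_right_injective (le_refl 2) h2
    omega

/-- the action of `P` on `T` -/
theorem card_range_dvd (S : SX (U := U) 3 q₀ 2 n X B) {P : Subgroup Y} {T : AddSubgroup U} {t : ℕ}
    (cT : Nat.card T = 2 ^ t) (st : ∀ y ∈ P, ∀ u ∈ T, y • u ∈ T) :
    Nat.card P ∣ Nat.card (fixT P T) * ∏ i : Fin t, (2 ^ t - 2 ^ (i : ℕ)) := by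
  have : Fact (Nat.Prime 2) := ⟨Nat.prime_two⟩
  let ρ : P →* MulAut (Multiplicative T) :=
    { toFun := fun y => AddEquiv.toMultiplicative
        { toFun := fun u => ⟨(y : Y) • (u : U), st y y.2 u u.2⟩
          invFun := fun u => ⟨(y⁻¹ : P) • (u : U), st _ (y⁻¹ : P).2 u u.2⟩
          left_inv := fun u => Subtype.ext (by
            change ((y⁻¹ : P) : Y) • (y : Y) • (u : U) = u
            rw [Subgroup.coe_inv, inv_smul_smul])
          right_inv := fun u => Subtype.ext (by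
            change (y : Y) • ((y⁻¹ : P) : Y) • (u : U) = u
            rw [Subgroup.coe_inv, smul_inv_smul])
          map_add' := fun u v => Subtype.ext (smul_add _ _ _) }
      map_one' := by
        ext u
        exact one_smul Y (u.toAdd : U)
      map_mul' := fun x y => by
        ext u
        exact mul_smul (x : Y) (y : Y) (u.toAdd : U) }
  have hρ : ∀ (y : P) (u : T), (((ρ y (Multiplicative.ofAdd u)).toAdd : T) : U) = (y : Y) • (u : U) := fun _ _ => rfl
  have hker : Nat.card ρ.ker = Nat.card (fixT P T) := by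
    refine Nat.card_congr ⟨fun y => ⟨((y : P) : Y), (y : P).2, fun u hu => ?_⟩, fun y => ⟨⟨y, y.2.1⟩, ?_⟩, fun y => ?_,
      fun y => ?_⟩
    · have h1 : ρ y = 1 := y.2
      have h2 := hρ y ⟨u, hu⟩
      rw [h1] at h2
      exact h2.symm
    · rw [MonoidHom.mem_ker]
      ext u
      exact y.2.2 _ (u.toAdd : T).2
    · rfl
    · rfl
  have hGL : Nat.card (MulAut (Multiplicative T)) = ∏ i : Fin t, (2 ^ t - 2 ^ (i : ℕ)) := by
    obtain ⟨e⟩ := Cfsg.Agent.Lib.ElemAbGL.mulAut_equiv_GL (V := Multiplicative T) 2 t (fun x => by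
      apply Multiplicative.toAdd.injective
      apply Subtype.ext
      exact S.exp (x.toAdd : T)) (by
        rw [← cT]
        exact Nat.card_congr Multiplicative.toAdd)
    rw [Nat.card_congr e.toEquiv, Matrix.card_GL_field, ZMod.card]
  rw [← hker, ← hGL, ← Subgroup.card_mul_index ρ.ker, Subgroup.index_ker]
  exact Nat.mul_dvd_mul_left _ (Subgroup.card_subgroup_dvd_card _)

end

end Cfsg.Agent.H263.RIM
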