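import Cfsg.Agent.H263.RIM.TOne

/-!
# S4816, layer (BP), `p = 3`: existence of large isotropic subgroups, fixed vectors (helper263)
-/

set_option autoImplicit false
set_option linter.unusedSectionVars false

open scoped commutatorElement

namespace Cfsg.Agent.H263.RIM

open Cfsg.Agent.H586.NX Cfsg.Agent.H921.NX

/-- fixed points modulo `p` -/
theorem card_modEq {p : ℕ} [hp : Fact p.Prime] {Y U : Type*} [Group Y] [Finite U] [MulAction Y U] {P : Subgroup Y}
    (hP : IsPGroup p P) (M : Set U) (hM : ∀ y ∈ P, ∀ u ∈ M, y • u ∈ M) :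
    Nat.card M ≡ Nat.card {u : U // u ∈ M ∧ ∀ y ∈ P, y • u = u} [MOD p] := by
  let iM : MulAction P M :=
    { smul := fun y u => ⟨(y : Y) • (u : U), hM y y.2 u u.2⟩
      one_smul := fun u => Subtype.ext (one_smul Y (u : U))
      mul_smul := fun x y u => Subtype.ext (mul_smul (x : Y) (y : Y) (u : U)) }
  have hsm : ∀ (y : P) (u : M), ((y • u : M) : U) = (y : Y) • (u : U) := fun _ _ => rfl
  have h1 := hP.card_modEq_card_fixedPoints M
  have h2 : Nat.card (MulAction.fixedPoints P M) = Nat.card {u : U // u ∈ M ∧ ∀ y ∈ P, y • u = u} := by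
    refine Nat.card_congr ⟨fun u => ⟨u.1, u.1.2, fun y hy => ?_⟩, fun u => ⟨⟨u.1, u.2.1⟩, fun y => ?_⟩, fun u => ?_,
      fun u => ?_⟩
    · have h3 := u.2 ⟨y, hy⟩
      exact congrArg Subtype.val h3
    · exact Subtype.ext (u.2.2 y y.2)
    · rfl
    · rfl
  rwa [h2] at h1

section

variable {q₀ n : ℕ} {Y U : Type*} [Group Y] [Finite Y] [AddCommGroup U] [Finite U] [DistribMulAction Y U]
  {X : Subgroup Y} {B : U → U → ZMod 2}

theorem iso_le (S : SX (U := U) 3 q₀ 2 n X B) {T : AddSubgroup U} (iso : ∀ u ∈ T, ∀ v ∈ T, B u v = 0) {t : ℕ}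
    (cT : Nat.card T = 2 ^ t) : t ≤ n := by
  have h1 : T ≤ perp S T := fun u hu v hv => iso u hu v hv
  have h2 := (perp_facts S T).1
  have h3 : Nat.card T ≤ Nat.card (perp S T) := Nat.card_le_card_of_injective _ (AddSubgroup.inclusion_injective h1)
  have h4 : 2 ^ t * 2 ^ t ≤ 2 ^ (2 * n) := by
    rw [← S.card, ← h2, ← cT]
    exact Nat.mul_le_mul_left _ h3
  rw [← pow_add] at h4
  have h5 := (Nat.pow_le_pow_iff_right (show 1 < 2 by norm_num)).1 h4
  omega

/-- the elements of `U` fixed by `P` are orthogonal to `T` if `P` has no fixed vectors on `T` -/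
theorem perp_of_fix (S : SX (U := U) 3 q₀ 2 n X B) {P : Subgroup Y} (hP : IsPGroup 3 P) {T : AddSubgroup U}
    (st : ∀ y ∈ P, ∀ u ∈ T, y • u ∈ T) (hfp : ∀ u ∈ T, (∀ y ∈ P, y • u = u) → u = 0) {c : U}
    (hc : ∀ y ∈ P, y • c = c) : ∀ v ∈ T, B c v = 0 := by
  have : Fact (Nat.Prime 3) := ⟨Nat.prime_three⟩
  let T₀ : AddSubgroup U :=
    { carrier := {v | v ∈ T ∧ B c v = 0}
      zero_mem' := ⟨T.zero_mem, B_zero_right S c⟩
      add_mem' := by
        rintro u v ⟨hu, hu'⟩ ⟨hv, hv'⟩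
        exact ⟨T.add_mem hu hv, by rw [S.addr, hu', hv', add_zero]⟩
      neg_mem' := by
        rintro u ⟨hu, hu'⟩
        exact ⟨T.neg_mem hu, by rw [B_neg_right S, hu', neg_zero]⟩ }
  have hT₀ : ∀ v, v ∈ T₀ ↔ v ∈ T ∧ B c v = 0 := fun _ => Iff.rfl
  have hst₀ : ∀ y ∈ P, ∀ u ∈ T₀, y • u ∈ T₀ := by
    intro y hy u hu
    refine ⟨st y hy u hu.1, ?_⟩
    have h1 := S.inv y c u
    rw [hc y hy] at h1
    rw [h1]
    exact hu.2
  have h1 := card_modEq hP (T : Set U) st
  have h2 := card_modEq hP (T₀ : Set U) hst₀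
  have e : ∀ (M : AddSubgroup U), M ≤ T → Nat.card {u : U // u ∈ (M : Set U) ∧ ∀ y ∈ P, y • u = u} = 1 := by
    intro M hM
    rw [Nat.card_eq_one_iff_unique]
    refine ⟨⟨fun a b => ?_⟩, ⟨⟨0, M.zero_mem, fun y _ => smul_zero y⟩⟩⟩
    exact Subtype.ext ((hfp a.1 (hM a.2.1) a.2.2).trans (hfp b.1 (hM b.2.1) b.2.2).symm)
  rw [e T le_rfl] at h1
  rw [e T₀ fun v hv => hv.1] at h2
  by_contra hcon
  push Not at hcon
  obtain ⟨v, hv, hcv⟩ := hcon
  have hz : ∀ z : ZMod 2, z ≠ 0 → z = 1 := by decide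
  have h3 : Nat.card T = 2 * Nat.card T₀ := by
    have hcard : Nat.card (T₀ ⊕ T₀) = Nat.card T := by
      refine Nat.card_congr (Equiv.ofBijective (fun x : T₀ ⊕ T₀ => (Sum.elim (fun u : T₀ => (⟨(u : U), u.2.1⟩ : T))
        (fun u : T₀ => (⟨(u : U) + v, T.add_mem u.2.1 hv⟩ : T)) x)) ⟨?_, ?_⟩)
      · rintro (x | x) (y | y) hxy
        · have h4 : (x : U) = y := by
            have h6 : ((⟨(x : U), x.2.1⟩ : T) : U) = ((⟨(y : U), y.2.1⟩ : T) : U) := congrArg Subtype.val hxy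
            exact h6
          exact congrArg Sum.inl (Subtype.ext h4)
        · exfalso
          have h4 : (x : U) = y + v := congrArg Subtype.val hxy
          have h5 := x.2.2
          rw [h4, S.addr, y.2.2, zero_add] at h5
          exact hcv h5
        · exfalso
          have h4 : (x : U) + v = y := congrArg Subtype.val hxy
          have h5 := y.2.2
          rw [← h4, S.addr, x.2.2, zero_add] at h5
          exact hcv h5
        · have h4 : (x : U) + v = y + v := congrArg Subtype.val hxy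
          exact congrArg Sum.inr (Subtype.ext (add_right_cancel h4))
      · rintro ⟨u, hu⟩
        by_cases hcu : B c u = 0
        · exact ⟨Sum.inl ⟨u, hu, hcu⟩, rfl⟩
        · refine ⟨Sum.inr ⟨u - v, T.sub_mem hu hv, ?_⟩, Subtype.ext (sub_add_cancel u v)⟩
          rw [sub_eq_add_neg, S.addr, B_neg_right S, hz _ hcu, hz _ hcv]
          decide
    rw [← hcard, Nat.card_sum, two_mul]
  have h4 : Nat.card (T : Set U) = Nat.card T := rfl
  have h5 : Nat.card (T₀ : Set U) = Nat.card T₀ := rfl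
  rw [h4, h3] at h1
  rw [h5] at h2
  unfold Nat.ModEq at h1 h2
  omega

/-- an element of order `3` with the fixed space of an element of `fixT`, normalizing `T`, fixes `T` -/
theorem fix_of_card (S : SX (U := U) 3 q₀ 2 n X B) {T : AddSubgroup U} (iso : ∀ u ∈ T, ∀ v ∈ T, B u v = 0) {t : ℕ}
    (ht : t + 1 = n) {y : Y} (hy : orderOf y = 3) (st : ∀ u ∈ T, y • u ∈ T)
    (hc : Nat.card {u : U // y • u = u} = 2 ^ (2 * t)) : ∀ u ∈ T, y • u = u := by
  have h2 : ∀ v : U, v + v = 0 := fun v => by have := S.exp v; rwa [two_smul] at this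
  have hy3 : ∀ u : U, y • y • y • u = u := by
    intro u
    have h1 : y ^ 3 = 1 := by rw [← hy]; exact pow_orderOf_eq_one y
    rw [← mul_smul, ← mul_smul, ← pow_two, ← pow_succ, h1, one_smul]
  let C : AddSubgroup U :=
    { carrier := {u | y • u = u}
      zero_mem' := smul_zero y
      add_mem' := fun {a b} ha hb => by
        change y • (a + b) = a + b
        rw [smul_add, show y • a = a from ha, show y • b = b from hb]
      neg_mem' := fun {a} ha => by
        change y • (-a) = -a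
        rw [smul_neg, show y • a = a from ha] }
  have hC : ∀ u, u ∈ C ↔ y • u = u := fun _ => Iff.rfl
  have cC : Nat.card C = 2 ^ (2 * t) := hc
  have cP : Nat.card (perp S C) = 4 := by
    rw [card_perp S cC (by omega)]
    have : 2 * n - 2 * t = 2 := by omega
    rw [this]
    norm_num
  intro u hu
  by_contra hcon
  set m := y • u + u with hm
  have hm0 : m ≠ 0 := by
    intro h
    apply hcon
    have h3 : y • u = -u := eq_neg_of_add_eq_zero_left h
    rw [h3]
    exact neg_eq_of_add_eq_zero_left (h2 u)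
  have hmT : m ∈ T := T.add_mem (st u hu) hu
  have hym : y • m ≠ m := by
    intro h
    rw [hm, smul_add] at h
    have h3 : y • y • u + y • u = u + y • u := by rw [h, add_comm]
    have h4 := add_right_cancel h3
    apply hcon
    have h5 := hy3 u
    rw [h4] at h5
    exact h5
  have hym0 : y • m ≠ 0 := by
    intro h
    exact hm0 ((smul_eq_zero_iff_eq y).1 h)
  have hperp : ∀ v ∈ T, y • v + v ∈ perp S C := by
    intro v _ c hc'
    rw [S.addl]
    have h3 := S.inv y v c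
    rw [(hC c).1 hc'] at h3
    rw [h3]
    exact CharTwo.add_self_eq_zero _
  have hmP : m ∈ perp S C := hperp u hu
  have hymP : y • m ∈ perp S C := by
    have h3 := hperp (y • u) (st u hu)
    rw [hm, smul_add]
    exact h3
  obtain ⟨T1, hT1, c1⟩ := exists_ext S (⊥ : AddSubgroup U) (u := m) (by rwa [AddSubgroup.mem_bot])
  have hy1 : y • m ∉ T1 := by
    rw [hT1, AddSubgroup.mem_bot, AddSubgroup.mem_bot, not_or]
    refine ⟨hym0, fun h => hym ?_⟩
    rw [eq_neg_of_add_eq_zero_left h]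
    exact neg_eq_of_add_eq_zero_left (h2 m)
  obtain ⟨T2, hT2, c2⟩ := exists_ext S T1 hy1
  rw [c1, AddSubgroup.card_bot] at c2
  have hle1 : ∀ v, v ∈ T1 → v = 0 ∨ v = m := by
    intro v hv
    rw [hT1, AddSubgroup.mem_bot, AddSubgroup.mem_bot] at hv
    rcases hv with hv | hv
    · exact Or.inl hv
    · right
      rw [eq_neg_of_add_eq_zero_left hv]
      exact neg_eq_of_add_eq_zero_left (h2 m)
  have hle2 : ∀ v, v ∈ T2 → v ∈ perp S C ∧ v ∈ T := by
    intro v hv
    rw [hT2] at hv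
    rcases hv with hv | hv
    · rcases hle1 v hv with rfl | rfl
      · exact ⟨(perp S C).zero_mem, T.zero_mem⟩
      · exact ⟨hmP, hmT⟩
    · have h3 : v = (v + y • m) + y • m := by rw [add_assoc, h2, add_zero]
      rw [h3]
      rcases hle1 _ hv with h4 | h4
      · rw [h4, zero_add]
        exact ⟨hymP, st m hmT⟩
      · rw [h4]
        exact ⟨(perp S C).add_mem hmP hymP, T.add_mem hmT (st m hmT)⟩
  have heq : T2 = perp S C := by
    apply SetLike.coe_injective
    refine Set.eq_of_subset_of_ncard_le (fun v hv => (hle2 v hv).1) ?_ (Set.toFinite _)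
    have e1 : ((perp S C : AddSubgroup U) : Set U).ncard = Nat.card (perp S C) := rfl
    have e2 : (T2 : Set U).ncard = Nat.card T2 := rfl
    rw [e1, e2, cP, c2]
  have hmC : m ∈ C := by
    apply (perp_facts S C).2
    intro v hv
    rw [← heq] at hv
    exact iso v (hle2 v hv).2 m hmT
  exact hym ((hC m).1 hmC)

end

section

variable {q₀ n : ℕ} {G W Y U : Type*} [Group G] [Finite G] [AddCommGroup W] [Finite W]
    [DistribMulAction G W] [Group Y] [Finite Y] [AddCommGroup U] [Finite U] [DistribMulAction Y U]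
    {L Z : Subgroup G} {π : G →* Y} {a : L →* Multiplicative U} {X : Subgroup Y} {B : U → U → ZMod 2}

/-- every vector `w` gives an isotropic subgroup normalized by a Sylow subgroup -/
theorem exists_PT (h : LB (W := W) 3 3 2 n L Z π a B) {w : W} (hw : w ≠ 0) :
    ∃ (T : AddSubgroup U) (P : Sylow 3 Y), (T : Set U) = Tw L a w ∧ (∀ u ∈ T, ∀ v ∈ T, B u v = 0) ∧
      ∀ y ∈ P, ∀ u ∈ T, y • u ∈ T := by
  have : Fact (Nat.Prime 3) := ⟨Nat.prime_three⟩
  obtain ⟨T, hT, iso, inv⟩ := exists_T h hw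
  obtain ⟨P, hP⟩ := exists_sylow π h.ip (h.P1 w)
  refine ⟨T, P, hT, iso, fun y hy u hu => ?_⟩
  obtain ⟨g, hg, rfl⟩ := hP y hy
  exact inv g hg u hu

/-- a large isotropic subgroup normalized by a Sylow subgroup -/
theorem exists_big (S : SX (U := U) 3 q₀ 2 n X B) (h : LB (W := W) 3 3 2 n L Z π a B) {Q : ℕ}
    (hQ : Nat.card W = Q ^ (2 ^ n)) (hn : 1 ≤ n) :
    ∃ (w : W) (T : AddSubgroup U) (P : Sylow 3 Y) (t : ℕ), w ≠ 0 ∧ (T : Set U) = Tw L a w ∧
      (∀ u ∈ T, ∀ v ∈ T, B u v = 0) ∧ (∀ y ∈ P, ∀ u ∈ T, y • u ∈ T) ∧ Nat.card T = 2 ^ t ∧ n ≤ t + 1 ∧ t ≤ n := by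
  have := h.lx.nt
  obtain ⟨F, i1, i2, i3, D⟩ := Cfsg.Agent.H684.GW.exists_FD (W := W) h.lx.nL h.lx.irr
  obtain ⟨T₀, E, g⟩ := Cfsg.Agent.H302.RIM.exists_good h D S hQ (n - 1) (by omega)
  have hQ1 : 1 < Q := by
    by_contra hcon
    have h1 : 1 < Nat.card W := Finite.one_lt_card
    rw [hQ] at h1
    have h2 : Q ^ 2 ^ n ≤ 1 := Nat.pow_le_one_iff (pow_ne_zero n two_ne_zero) |>.2 (by omega)
    omega
  have hE : 1 < Nat.card E := by
    rw [g.cE]
    exact Nat.one_lt_pow (pow_ne_zero _ two_ne_zero) hQ1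
  have hEn : Nontrivial E := Finite.one_lt_card_iff_nontrivial.1 hE
  obtain ⟨⟨w, hwE⟩, hw⟩ := exists_ne (0 : E)
  have hw0 : w ≠ 0 := fun h0 => hw (Subtype.ext h0)
  obtain ⟨T, P, hT, iso, st⟩ := exists_PT h hw0
  obtain ⟨t, ht⟩ := Cfsg.Agent.H994.NX.card_two (U := U) S.exp T
  have hle : T₀ ≤ T := by
    intro u hu
    rw [← SetLike.mem_coe, hT, mem_Tw D]
    obtain ⟨c, hc⟩ := g.sc (Cfsg.Agent.H20.GWX.rep h.lx u) (by rw [Cfsg.Agent.H20.GWX.a_rep h.lx D]; exact hu)
    exact ⟨Cfsg.Agent.H20.GWX.rep h.lx u, by rw [Cfsg.Agent.H20.GWX.a_rep h.lx D]; rfl, c, hc w hwE⟩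
  refine ⟨w, T, P, t, hw0, hT, iso, st, ht, ?_, iso_le S iso ht⟩
  have h3 : Nat.card T₀ ≤ Nat.card T := Nat.card_le_card_of_injective _ (AddSubgroup.inclusion_injective hle)
  rw [g.cT, ht] at h3
  have h4 := (Nat.pow_le_pow_iff_right (show 1 < 2 by norm_num)).1 h3
  omega

end

end Cfsg.Agent.H263.RIM
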